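import Groth.Agent.H27Staircase.Classify
import Mathlib

/-! # `A ⊗ k[x, y]` is a plane -/

set_option autoImplicit false
set_option linter.style.haveILetI false

universe u

open TensorProduct MvPolynomial

namespace Groth.Agent.H27Staircase

variable (k : Type u) [Field k] (A : Type u) [CommRing A] [Algebra k A]

/-- The first coordinate. -/
noncomputable abbrev tx : A ⊗[k] MvPolynomial (Fin 2) k := (1 : A) ⊗ₜ[k] X 0

/-- The second coordinate. -/
noncomputable abbrev ty : A ⊗[k] MvPolynomial (Fin 2) k := (1 : A) ⊗ₜ[k] X 1

/-- Setting the second coordinate to zero. -/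
noncomputable def tc : A ⊗[k] MvPolynomial (Fin 2) k →ₐ[A] Polynomial A :=
  Algebra.TensorProduct.lift (Algebra.ofId A (Polynomial A)) (MvPolynomial.aeval ![Polynomial.X, 0])
    fun _ _ => Commute.all _ _

theorem isPlane_tensor : IsPlane (tx k A) (ty k A) (tc k A) where
  cx := by simp [tc]
  cy := by simp [tc]
  ker f hf := by
    have key : ∀ f, ∃ g, f - Polynomial.aeval (tx k A) (tc k A f) = ty k A * g := by
      intro f
      induction f using TensorProduct.induction_on with
      | zero => exact ⟨0, by simp⟩
      | add p q hp hq =>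
        obtain ⟨g, hg⟩ := hp
        obtain ⟨g', hg'⟩ := hq
        exact ⟨g + g', by rw [map_add, map_add, mul_add, ← hg, ← hg']; abel⟩
      | tmul a p =>
        suffices ∃ g, (1 : A) ⊗ₜ[k] p - Polynomial.aeval (tx k A) (tc k A ((1 : A) ⊗ₜ[k] p)) = ty k A * g by
          obtain ⟨g, hg⟩ := this
          refine ⟨algebraMap A _ a * g, ?_⟩
          rw [show a ⊗ₜ[k] p = algebraMap A (A ⊗[k] MvPolynomial (Fin 2) k) a * ((1 : A) ⊗ₜ[k] p) by
              simp [Algebra.TensorProduct.algebraMap_apply],
            map_mul, map_mul, AlgHom.commutes, Polynomial.algebraMap_eq, Polynomial.aeval_C, ← mul_sub, hg,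
            mul_left_comm]
        induction p using MvPolynomial.induction_on with
        | C r =>
          refine ⟨0, ?_⟩
          have e : (1 : A) ⊗ₜ[k] (C r : MvPolynomial (Fin 2) k) = algebraMap A _ (algebraMap k A r) := by
            rw [Algebra.TensorProduct.algebraMap_apply, Algebra.algebraMap_self, RingHom.id_apply,
              ← MvPolynomial.algebraMap_eq, Algebra.algebraMap_eq_smul_one, Algebra.algebraMap_eq_smul_one,
              TensorProduct.smul_tmul]
          rw [e, AlgHom.commutes, Polynomial.algebraMap_eq, Polynomial.aeval_C, sub_self, mul_zero]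
        | add p q hp hq =>
          obtain ⟨g, hg⟩ := hp
          obtain ⟨g', hg'⟩ := hq
          exact ⟨g + g', by rw [TensorProduct.tmul_add, map_add, map_add, mul_add, ← hg, ← hg']; abel⟩
        | mul_X p i hp =>
          obtain ⟨g, hg⟩ := hp
          rw [show (1 : A) ⊗ₜ[k] (p * X i) = (1 : A) ⊗ₜ[k] p * ((1 : A) ⊗ₜ[k] X i) by simp, map_mul, map_mul]
          fin_cases i
          · refine ⟨g * tx k A, ?_⟩
            rw [← mul_assoc, ← hg, sub_mul]
            simp [tc, mul_comm]
          · refine ⟨(1 : A) ⊗ₜ[k] p, ?_⟩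
            simp [tc, mul_comm]
    obtain ⟨g, hg⟩ := key f
    exact ⟨g, by rwa [hf, map_zero, sub_zero] at hg⟩
  reg f hf := by
    let m : MvPolynomial (Fin 2) k →ₗ[k] MvPolynomial (Fin 2) k := LinearMap.mulLeft k (X 1)
    have hm : Function.Injective m := fun p q h => mul_left_cancel₀ (MvPolynomial.X_ne_zero 1) h
    have hinj := Module.Flat.lTensor_preserves_injective_linearMap (M := A) m hm
    apply hinj
    rw [map_zero]
    rw [← hf]
    clear hf
    induction f using TensorProduct.induction_on with
    | zero => simp
    | tmul a p => simp [m]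
    | add p q hp hq => rw [map_add, hp, hq, mul_add]

end Groth.Agent.H27Staircase
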