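import Mathlib

/-! # Ideals of the plane by staircases: an affine cell for every decreasing list

`R` is an `A`-algebra with two elements `x`, `y` that behaves like `A[x, y]`.  For a decreasing
list `l` and parameters `v` we build an ideal with `(I : y)` the ideal of the tail. -/

set_option autoImplicit false
set_option linter.style.haveILetI false

universe u v

open Polynomial

namespace Groth.Agent.H27Staircase

/-- The first entry, zero for the empty list. -/
def hd : List ℕ → ℕ
  | [] => 0
  | a :: _ => a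

/-- Decreasing lists. -/
def Dec : List ℕ → Prop
  | [] => True
  | a :: l => hd l ≤ a ∧ Dec l

/-- The parameters of a cell. -/
def Idx : List ℕ → Type
  | [] => Empty
  | _ :: l => Fin (hd l) ⊕ Idx l

instance instFintypeIdx : ∀ l : List ℕ, Fintype (Idx l)
  | [] => inferInstanceAs (Fintype Empty)
  | _ :: l =>
    letI := instFintypeIdx l
    inferInstanceAs (Fintype (Fin (hd l) ⊕ Idx l))

theorem card_idx : ∀ l : List ℕ, Fintype.card (Idx l) = l.tail.sum
  | [] => rfl
  | a :: l => by
    letI := instFintypeIdx l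
    show Fintype.card (Fin (hd l) ⊕ Idx l) = _
    rw [Fintype.card_sum, Fintype.card_fin, card_idx l]
    cases l <;> simp [hd]

variable {A : Type u} [CommRing A] {R : Type v} [CommRing R] [Algebra A R] (x y : R)

/-- The ideal, the pure power lifted into it and a basis of `(I : y)/I`. -/
noncomputable def data : (l : List ℕ) → (Idx l → A) → Ideal R × R × (ℕ → R)
  | [], _ => (⊤, 1, fun _ => 0)
  | a :: l, v =>
    let p := data l fun i => v (Sum.inr i)
    let h := x ^ (a - hd l) * p.2.1 + y * ∑ i : Fin (hd l), v (Sum.inl i) • p.2.2 i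
    (Ideal.span {y} * p.1 ⊔ Ideal.span {h}, h,
      fun i => if i < a - hd l then x ^ i * p.2.1 else y * p.2.2 (i - (a - hd l)))

/-- The ideal of a cell. -/
noncomputable abbrev ideal (l : List ℕ) (v : Idx l → A) : Ideal R := (data x y l v).1

/-- The lift of the pure power. -/
noncomputable abbrev top' (l : List ℕ) (v : Idx l → A) : R := (data x y l v).2.1

/-- The basis of `(I : y)/I`. -/
noncomputable abbrev colon (l : List ℕ) (v : Idx l → A) : ℕ → R := (data x y l v).2.2

lemma top'_cons (a : ℕ) (l : List ℕ) (v : Idx (a :: l) → A) :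
    top' x y (a :: l) v = x ^ (a - hd l) * top' x y l (fun i => v (Sum.inr i)) +
      y * ∑ i : Fin (hd l), v (Sum.inl i) • colon x y l (fun i => v (Sum.inr i)) i := rfl

lemma colon_cons (a : ℕ) (l : List ℕ) (v : Idx (a :: l) → A) (i : ℕ) :
    colon x y (a :: l) v i = if i < a - hd l then x ^ i * top' x y l (fun i => v (Sum.inr i))
      else y * colon x y l (fun i => v (Sum.inr i)) (i - (a - hd l)) := rfl

lemma ideal_cons (a : ℕ) (l : List ℕ) (v : Idx (a :: l) → A) :
    ideal x y (a :: l) v = Ideal.span {y} * ideal x y l (fun i => v (Sum.inr i)) ⊔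
      Ideal.span {top' x y (a :: l) v} := rfl

lemma mem_ideal_cons {a : ℕ} {l : List ℕ} {v : Idx (a :: l) → A} {f : R} :
    f ∈ ideal x y (a :: l) v ↔
      ∃ j ∈ ideal x y l (fun i => v (Sum.inr i)), ∃ r, f = y * j + r * top' x y (a :: l) v := by
  show f ∈ Ideal.span {y} * _ ⊔ Ideal.span {top' x y (a :: l) v} ↔ _
  simp only [Submodule.mem_sup, Ideal.mem_span_singleton_mul, Ideal.mem_span_singleton']
  constructor
  · rintro ⟨_, ⟨j, hj, rfl⟩, _, ⟨r, rfl⟩, rfl⟩
    exact ⟨j, hj, r, rfl⟩
  · rintro ⟨j, hj, r, rfl⟩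
    exact ⟨_, ⟨j, hj, rfl⟩, _, ⟨r, rfl⟩, rfl⟩

variable (c : R →ₐ[A] A[X])

/-- `R` behaves like `A[x, y]`. -/
structure IsPlane : Prop where
  cx : c x = Polynomial.X
  cy : c y = 0
  ker : ∀ f, c f = 0 → ∃ g, f = y * g
  reg : ∀ f, y * f = 0 → f = 0

/-- What a cell satisfies. -/
structure Good (l : List ℕ) (v : Idx l → A) : Prop where
  dvd : ∀ f ∈ ideal x y l v, Polynomial.X ^ hd l ∣ c f
  top_mem : top' x y l v ∈ ideal x y l v
  c_top : c (top' x y l v) = Polynomial.X ^ hd l
  mem_colon : ∀ i, i < hd l → y * colon x y l v i ∈ ideal x y l v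
  span_colon : ∀ f, y * f ∈ ideal x y l v →
    ∃ w : Fin (hd l) → A, f - ∑ i, w i • colon x y l v i ∈ ideal x y l v
  indep_colon : ∀ w : Fin (hd l) → A, ∑ i, w i • colon x y l v i ∈ ideal x y l v → w = 0

variable {x y c}

lemma IsPlane.cancel (hR : IsPlane x y c) {f g : R} (h : y * f = y * g) : f = g :=
  sub_eq_zero.1 (hR.reg _ (by rw [mul_sub, h, sub_self]))

lemma IsPlane.c_smul (a : A) (f : R) : c (a • f) = Polynomial.C a * c f := by
  rw [map_smul, Polynomial.smul_eq_C_mul]

lemma IsPlane.c_lift (hR : IsPlane x y c) (q : A[X]) : c (Polynomial.aeval x q) = q := by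
  rw [← Polynomial.aeval_algHom_apply, hR.cx, Polynomial.aeval_X_left_apply]

section step

variable {a : ℕ} {l : List ℕ} {v : Idx (a :: l) → A}

lemma c_top_cons (hR : IsPlane x y c) (hd' : hd l ≤ a) (ih : Good x y c l fun i => v (Sum.inr i)) :
    c (top' x y (a :: l) v) = Polynomial.X ^ a := by
  show c (x ^ (a - hd l) * _ + y * _) = _
  rw [map_add, map_mul, map_mul, map_pow, hR.cx, hR.cy, ih.c_top, zero_mul, add_zero, ← pow_add,
    Nat.sub_add_cancel hd']

lemma top_mem_tail (ih : Good x y c l fun i => v (Sum.inr i)) :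
    top' x y (a :: l) v ∈ ideal x y l fun i => v (Sum.inr i) := by
  show x ^ (a - hd l) * _ + y * _ ∈ _
  refine add_mem (Ideal.mul_mem_left _ _ ih.top_mem) ?_
  rw [Finset.mul_sum]
  refine sum_mem fun i _ => ?_
  rw [mul_smul_comm]
  exact Submodule.smul_of_tower_mem _ _ (ih.mem_colon i i.2)

/-- The colon ideal by `y` is the ideal of the tail. -/
lemma mul_mem_iff (hR : IsPlane x y c) (hd' : hd l ≤ a) (ih : Good x y c l fun i => v (Sum.inr i)) {f : R} :
    y * f ∈ ideal x y (a :: l) v ↔ f ∈ ideal x y l fun i => v (Sum.inr i) := by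
  refine ⟨fun hf => ?_, fun hf => (mem_ideal_cons x y).2 ⟨f, hf, 0, by simp⟩⟩
  obtain ⟨j, hj, r, hr⟩ := (mem_ideal_cons x y).1 hf
  have h0 := congrArg c hr
  simp only [map_mul, map_add, hR.cy, zero_mul, zero_add, c_top_cons hR hd' ih] at h0
  have hcr : c r = 0 := (Polynomial.monic_X_pow a).mul_left_eq_zero_iff.1 h0.symm
  obtain ⟨r', rfl⟩ := hR.ker r hcr
  have : f = j + r' * top' x y (a :: l) v := hR.cancel (by rw [hr]; ring)
  rw [this]
  exact add_mem hj (Ideal.mul_mem_left _ _ (top_mem_tail ih))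

lemma good_cons (hR : IsPlane x y c) (hd' : hd l ≤ a) (ih : Good x y c l fun i => v (Sum.inr i)) :
    Good x y c (a :: l) v := by
  set v' : Idx l → A := fun i => v (Sum.inr i)
  have hlt : ∀ i, i < a - hd l → colon x y (a :: l) v i = x ^ i * top' x y l v' := fun i h => if_pos h
  have hge : ∀ i, colon x y (a :: l) v (a - hd l + i) = y * colon x y l v' i := fun i => by
    show (if _ then _ else _) = _
    rw [if_neg (by omega), Nat.add_sub_cancel_left]
  refine ⟨fun f hf => ?_, (mem_ideal_cons x y).2 ⟨0, zero_mem _, 1, by simp⟩, c_top_cons hR hd' ih,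
    fun i hi => ?_, fun f hf => ?_, fun w hw => ?_⟩
  · obtain ⟨j, -, r, rfl⟩ := (mem_ideal_cons x y).1 hf
    simp [hR.cy, c_top_cons hR hd' ih, hd]
  · rw [mul_mem_iff hR hd' ih]
    rcases lt_or_ge i (a - hd l) with h | h
    · rw [hlt i h]; exact Ideal.mul_mem_left _ _ ih.top_mem
    · obtain ⟨i, rfl⟩ := Nat.exists_eq_add_of_le h
      rw [hge]
      exact ih.mem_colon i (by have h1 : a - hd l + i < a := hi; omega)
  · have hfJ := (mul_mem_iff hR hd' ih).1 hf
    obtain ⟨q, hq⟩ := ih.dvd f hfJ
    let q₀ : A[X] := ∑ i ∈ Finset.range (a - hd l), Polynomial.C (q.coeff i) * Polynomial.X ^ i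
    obtain ⟨q₁, hq₁⟩ : Polynomial.X ^ (a - hd l) ∣ q - q₀ := by
      rw [Polynomial.X_pow_dvd_iff]
      intro i hi
      simp [q₀, Polynomial.coeff_X_pow, hi]
    let f₁ := f - Polynomial.aeval x q₀ * top' x y l v' - Polynomial.aeval x q₁ * top' x y (a :: l) v
    have hc : c f₁ = 0 := by
      simp only [f₁, map_sub, map_mul, hR.c_lift, ih.c_top, c_top_cons hR hd' ih, hq]
      calc Polynomial.X ^ hd l * q - q₀ * Polynomial.X ^ hd l - q₁ * Polynomial.X ^ a
          = Polynomial.X ^ hd l * (q - q₀) - q₁ * Polynomial.X ^ a := by ring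
        _ = 0 := by
          rw [hq₁, ← mul_assoc, ← pow_add, Nat.add_sub_cancel' hd']
          ring
    obtain ⟨g, hg⟩ := hR.ker _ hc
    have hgJ : y * g ∈ ideal x y l v' := by
      rw [← hg]
      exact sub_mem (sub_mem hfJ (Ideal.mul_mem_left _ _ ih.top_mem)) (Ideal.mul_mem_left _ _ (top_mem_tail ih))
    obtain ⟨w, hw⟩ := ih.span_colon g hgJ
    refine ⟨fun i => if h : i.1 < a - hd l then q.coeff i else w ⟨i - (a - hd l), by
      have h1 : i.1 < a := i.2; omega⟩, ?_⟩
    have he : ∑ i : Fin a, (if h : i.1 < a - hd l then q.coeff i else w ⟨i - (a - hd l), by have := i.2; omega⟩) •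
        colon x y (a :: l) v i =
        Polynomial.aeval x q₀ * top' x y l v' + y * ∑ i, w i • colon x y l v' i := by
      rw [← (finCongr (Nat.sub_add_cancel hd')).sum_comp, Fin.sum_univ_add]
      congr 1
      · rw [map_sum, Finset.sum_mul, ← Fin.sum_univ_eq_sum_range (fun i =>
          Polynomial.aeval x (Polynomial.C (q.coeff i) * Polynomial.X ^ i) * top' x y l v')]
        refine Finset.sum_congr rfl fun i _ => ?_
        simp only [finCongr_apply, Fin.val_cast, Fin.val_castAdd, i.2, dite_true]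
        rw [hlt i i.2, map_mul, Polynomial.aeval_C, map_pow, Polynomial.aeval_X, Algebra.smul_def, mul_assoc]
      · rw [Finset.mul_sum]
        refine Finset.sum_congr rfl fun i _ => ?_
        simp only [finCongr_apply, Fin.val_cast, Fin.val_natAdd]
        rw [dif_neg (by omega), hge, mul_smul_comm]
        congr 2
        exact Fin.ext (by simp)
    show f - ∑ i : Fin a, _ ∈ _
    erw [he]
    refine (mem_ideal_cons x y).2 ⟨g - ∑ i, w i • colon x y l v' i, hw, Polynomial.aeval x q₁, ?_⟩
    rw [mul_sub, ← hg]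
    ring
  · have hsplit : ∑ i : Fin a, w i • colon x y (a :: l) v i =
        (∑ i : Fin (a - hd l), w ⟨i, by show i.1 < a; omega⟩ • (x ^ i.1 * top' x y l v')) +
          y * ∑ i : Fin (hd l), w ⟨a - hd l + i, by show _ < a; omega⟩ • colon x y l v' i := by
      rw [← (finCongr (Nat.sub_add_cancel hd')).sum_comp, Fin.sum_univ_add, Finset.mul_sum]
      congr 1
      · refine Finset.sum_congr rfl fun i _ => ?_
        simp only [finCongr_apply, Fin.val_cast, Fin.val_castAdd]
        rw [hlt i i.2]
        rfl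
      · refine Finset.sum_congr rfl fun i _ => ?_
        simp only [finCongr_apply, Fin.val_cast, Fin.val_natAdd]
        rw [hge, mul_smul_comm]
        rfl
    have hw' : ∑ i : Fin a, w i • colon x y (a :: l) v i ∈ ideal x y (a :: l) v := hw
    rw [hsplit] at hw'
    obtain ⟨j, -, r, hr⟩ := (mem_ideal_cons x y).1 hw'
    have hdvd : Polynomial.X ^ a ∣ (∑ i : Fin (a - hd l), Polynomial.C (w ⟨i, by show i.1 < a; omega⟩) *
        Polynomial.X ^ (i.1 + hd l)) := by
      have h0 := congrArg c hr
      simp only [map_add, map_mul, hR.cy, zero_mul, add_zero, zero_add, c_top_cons hR hd' ih, map_sum,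
        IsPlane.c_smul, map_pow, hR.cx, ih.c_top] at h0
      exact ⟨c r, by rw [mul_comm, ← h0]; exact Finset.sum_congr rfl fun i _ => by rw [pow_add]⟩
    have h1 : ∀ i : Fin (a - hd l), w ⟨i, by show i.1 < a; omega⟩ = 0 := fun i => by
      have := Polynomial.X_pow_dvd_iff.1 hdvd (i + hd l) (by omega)
      rw [Polynomial.finsetSum_coeff, Finset.sum_eq_single i] at this
      · simpa [Polynomial.coeff_X_pow] using this
      · intro j _ hji
        simp [Polynomial.coeff_X_pow, Fin.val_ne_of_ne hji.symm]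
      · simp
    rw [Finset.sum_eq_zero fun i _ => by rw [h1 i, zero_smul], zero_add, mul_mem_iff hR hd' ih] at hw'
    have h2 := ih.indep_colon _ hw'
    funext i
    by_cases hi : i.1 < a - hd l
    · exact h1 ⟨i, hi⟩
    · have := congrFun h2 ⟨i - (a - hd l), by have h1 : i.1 < a := i.2; omega⟩
      simp only [Pi.zero_apply] at this ⊢
      rw [← this]
      congr 1
      exact Fin.ext (by simp; omega)

end step

theorem good (hR : IsPlane x y c) : ∀ (l : List ℕ), Dec l → ∀ v : Idx l → A, Good x y c l v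
  | [], _, v =>
    { dvd := fun f _ => by simp [hd]
      top_mem := Submodule.mem_top
      c_top := by simp [top', data, hd]
      mem_colon := fun i hi => absurd hi (Nat.not_lt_zero i)
      span_colon := fun f _ => ⟨0, Submodule.mem_top⟩
      indep_colon := fun w _ => funext fun i => absurd i.2 (Nat.not_lt_zero _) }
  | _ :: l, hl, _ => good_cons hR hl.1 (good hR l hl.2 _)

theorem pow_mem : ∀ (l : List ℕ) (v : Idx l → A), y ^ l.length ∈ ideal x y l v
  | [], _ => Submodule.mem_top
  | _ :: l, v => (mem_ideal_cons x y).2 ⟨_, pow_mem l fun i => v (Sum.inr i), 0, by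
      rw [List.length_cons, pow_succ', zero_mul, add_zero]⟩

/-- Some power of `x` lies in the ideal of a cell. -/
theorem exists_pow_mem_x (hR : IsPlane x y c) : ∀ (l : List ℕ) (_ : Dec l) (v : Idx l → A),
    ∃ N, x ^ N ∈ ideal x y l v
  | [], _, _ => ⟨0, Submodule.mem_top⟩
  | a :: l, hl, v => by
    obtain ⟨N, hN⟩ := exists_pow_mem_x hR l hl.2 fun i => v (Sum.inr i)
    have hg := good hR l hl.2 fun i => v (Sum.inr i)
    obtain ⟨g, hg'⟩ := hR.ker (top' x y (a :: l) v - x ^ a) (by
      rw [map_sub, c_top_cons hR hl.1 hg, map_pow, hR.cx, sub_self])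
    refine ⟨a + N, (mem_ideal_cons x y).2 ⟨-(x ^ N * g), neg_mem (Ideal.mul_mem_right _ _ hN), x ^ N, ?_⟩⟩
    rw [sub_eq_iff_eq_add.1 hg', pow_add]
    ring

/-- The quotient by the ideal of a cell is free of rank the sum of the list. -/
theorem exists_equiv (hR : IsPlane x y c) : ∀ (l : List ℕ), Dec l → ∀ v : Idx l → A,
    Nonempty ((R ⧸ ideal x y l v) ≃ₗ[A] (Fin l.sum → A))
  | [], _, v => by
    haveI : Subsingleton (R ⧸ ideal x y [] v) := Submodule.Quotient.subsingleton_iff.2 rfl
    haveI : Subsingleton (Fin ([] : List ℕ).sum → A) := inferInstanceAs (Subsingleton (Fin 0 → A))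
    exact ⟨LinearEquiv.ofSubsingleton _ _⟩
  | a :: l, hl, v => by
    obtain ⟨e⟩ := exists_equiv hR l hl.2 fun i => v (Sum.inr i)
    have hg := good hR l hl.2 fun i => v (Sum.inr i)
    let J := ideal x y l fun i => v (Sum.inr i)
    let I := ideal x y (a :: l) v
    let mY : (R ⧸ J) →ₗ[A] R ⧸ I := (Submodule.mapQ J I (LinearMap.mulLeft R y) fun f hf => by
      show y * f ∈ I
      exact (mul_mem_iff hR hl.1 hg).2 hf).restrictScalars A
    let mX : (Fin a → A) →ₗ[A] R ⧸ I := Fintype.linearCombination A fun i : Fin a => Ideal.Quotient.mk I (x ^ i.1)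
    let Φ : (Fin a → A) × (R ⧸ J) →ₗ[A] R ⧸ I := mX.coprod mY
    have hmX : ∀ u, mX u = Ideal.Quotient.mk I (∑ i, u i • x ^ i.1) := fun u => by
      simp only [mX, Fintype.linearCombination_apply, map_sum]
      rfl
    have hΦ : ∀ u f, Φ (u, Ideal.Quotient.mk J f) = Ideal.Quotient.mk I (∑ i, u i • x ^ i.1 + y * f) := fun u f => by
      rw [map_add, ← hmX]
      rfl
    have hbij : Function.Bijective Φ := by
      refine ⟨(injective_iff_map_eq_zero Φ).2 ?_, fun F => ?_⟩
      · rintro ⟨u, F⟩ h0
        obtain ⟨f, rfl⟩ := Ideal.Quotient.mk_surjective F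
        rw [hΦ, Ideal.Quotient.eq_zero_iff_mem] at h0
        obtain ⟨j, -, r, hr⟩ := (mem_ideal_cons x y).1 h0
        have hdvd : Polynomial.X ^ a ∣ ∑ i : Fin a, Polynomial.C (u i) * Polynomial.X ^ i.1 := by
          have h1 := congrArg c hr
          simp only [map_add, map_mul, hR.cy, zero_mul, add_zero, zero_add, c_top_cons hR hl.1 hg, map_sum,
            IsPlane.c_smul, map_pow, hR.cx] at h1
          exact ⟨c r, by rw [mul_comm, ← h1]⟩
        have hu : u = 0 := funext fun i => by
          have := Polynomial.X_pow_dvd_iff.1 hdvd i i.2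
          rw [Polynomial.finsetSum_coeff, Finset.sum_eq_single i] at this
          · simpa [Polynomial.coeff_X_pow] using this
          · intro j _ hji
            have : (i : ℕ) ≠ j := fun e => hji (Fin.ext (by omega))
            simp [Polynomial.coeff_X_pow, this]
          · simp
        subst hu
        simp only [Pi.zero_apply, zero_smul, Finset.sum_const_zero, zero_add] at h0
        refine Prod.ext rfl (Ideal.Quotient.eq_zero_iff_mem.2 ((mul_mem_iff hR hl.1 hg).1 h0))
      · obtain ⟨f, rfl⟩ := Ideal.Quotient.mk_surjective F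
        let q₀ : A[X] := ∑ i : Fin a, Polynomial.C ((c f).coeff i) * Polynomial.X ^ i.1
        obtain ⟨q₁, hq₁⟩ : Polynomial.X ^ a ∣ c f - q₀ := by
          rw [Polynomial.X_pow_dvd_iff]
          intro i hi
          rw [Polynomial.coeff_sub, Polynomial.finsetSum_coeff, Finset.sum_eq_single ⟨i, hi⟩]
          · simp [Polynomial.coeff_X_pow]
          · intro j _ hji
            have : i ≠ j.1 := fun e => hji (Fin.ext e.symm)
            simp [Polynomial.coeff_X_pow, this]
          · simp
        let s := ∑ i : Fin a, (c f).coeff i • x ^ i.1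
        obtain ⟨g, hg'⟩ := hR.ker (f - s - Polynomial.aeval x q₁ * top' x y (a :: l) v) (by
          simp only [s, map_sub, map_mul, hR.c_lift, c_top_cons hR hl.1 hg, map_sum, IsPlane.c_smul, map_pow, hR.cx]
          show c f - q₀ - q₁ * Polynomial.X ^ a = 0
          rw [hq₁]; ring)
        refine ⟨(fun i => (c f).coeff i, Ideal.Quotient.mk J g), ?_⟩
        rw [hΦ, Ideal.Quotient.mk_eq_mk_iff_sub_mem, ← hg']
        refine (mem_ideal_cons x y).2 ⟨0, zero_mem _, -Polynomial.aeval x q₁, ?_⟩
        simp only [s]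
        ring
    exact ⟨(LinearEquiv.ofBijective Φ hbij).symm ≪≫ₗ (LinearEquiv.refl A (Fin a → A)).prodCongr e ≪≫ₗ
      (LinearEquiv.sumArrowLequivProdArrow (Fin a) (Fin l.sum) A A).symm ≪≫ₗ
      LinearEquiv.funCongrLeft A A ((finCongr (List.sum_cons)).trans finSumFinEquiv.symm)⟩

/-- Cells are natural in the ring of coefficients. -/
theorem map_data {A' : Type u} [CommRing A'] {R' : Type v} [CommRing R'] [Algebra A' R'] (ψ : A →+* A')
    (φ : R →+* R') (hφ : ∀ a, φ (algebraMap A R a) = algebraMap A' R' (ψ a)) :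
    ∀ (l : List ℕ) (v : Idx l → A),
      (ideal x y l v).map φ = ideal (φ x) (φ y) l (fun i => ψ (v i)) ∧
        φ (top' x y l v) = top' (φ x) (φ y) l (fun i => ψ (v i)) ∧
        ∀ i, φ (colon x y l v i) = colon (φ x) (φ y) l (fun i => ψ (v i)) i
  | [], v => ⟨Ideal.map_top _, map_one φ, fun i => map_zero φ⟩
  | a :: l, v => by
    obtain ⟨h1, h2, h3⟩ := map_data ψ φ hφ l fun i => v (Sum.inr i)
    have ht : φ (top' x y (a :: l) v) = top' (φ x) (φ y) (a :: l) (fun i => ψ (v i)) := by
      rw [top'_cons, top'_cons, map_add, map_mul, map_mul, map_pow, map_sum, h2]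
      refine congrArg (fun z => φ x ^ (a - hd l) * _ + φ y * z) (Finset.sum_congr rfl fun i _ => ?_)
      rw [Algebra.smul_def, map_mul, hφ, h3, ← Algebra.smul_def]
    refine ⟨?_, ht, fun i => ?_⟩
    · rw [ideal_cons, ideal_cons, Ideal.map_sup, Ideal.map_mul, Ideal.map_span, Ideal.map_span, Set.image_singleton,
        Set.image_singleton, h1, ht]
    · rw [colon_cons, colon_cons]
      split_ifs
      · rw [map_mul, map_pow, h2]
      · rw [map_mul, h3]

end Groth.Agent.H27Staircase
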