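import Groth.Agent.H27Staircase.Algebra
import Mathlib

/-! # Over a field every punctual ideal of the plane is exactly one cell -/

set_option autoImplicit false
set_option linter.style.haveILetI false

universe u v

open Polynomial

namespace Groth.Agent.H27Staircase

variable {A : Type u} [Field A] {R : Type v} [CommRing R] [Algebra A R] {x y : R} {c : R →ₐ[A] A[X]}

lemma pow_X_dvd_iff {a b : ℕ} : (Polynomial.X : A[X]) ^ a ∣ Polynomial.X ^ b ↔ a ≤ b :=
  pow_dvd_pow_iff Polynomial.X_ne_zero Polynomial.prime_X.not_unit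

/-- Every ideal with powers of `x` and `y` is a cell. -/
theorem exists_cell (hR : IsPlane x y c) : ∀ (n : ℕ) (I : Ideal R), y ^ n ∈ I → ∀ N, x ^ N ∈ I →
    ∃ (l : List ℕ) (v : Idx l → A), l.length = n ∧ Dec l ∧ ideal x y l v = I
  | 0, I, hy, _, _ => ⟨[], Empty.elim, rfl, trivial, by
      rw [pow_zero] at hy
      exact (I.eq_top_of_isUnit_mem hy isUnit_one).symm⟩
  | n + 1, I, hy, N, hx => by
    let J : Ideal R := Submodule.comap (LinearMap.mulLeft R y) I
    have hJ : ∀ f, f ∈ J ↔ y * f ∈ I := fun _ => Iff.rfl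
    obtain ⟨l, v', hlen, hdec, hl⟩ := exists_cell hR n J (by rw [hJ, ← pow_succ']; exact hy) N
      ((hJ _).2 (I.mul_mem_left _ hx))
    have hsurj : Function.Surjective c := fun q => ⟨_, hR.c_lift q⟩
    obtain ⟨a, ha⟩ : ∃ a, I.map c = Ideal.span {Polynomial.X ^ a} := by
      let g := Submodule.IsPrincipal.generator (I.map c)
      have hg : g ∣ Polynomial.X ^ N := (Submodule.IsPrincipal.mem_iff_generator_dvd _).1 (by
        rw [← hR.cx, ← map_pow]; exact Ideal.mem_map_of_mem _ hx)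
      obtain ⟨a, -, ha⟩ := (dvd_prime_pow Polynomial.prime_X N).1 hg
      exact ⟨a, by rw [← Ideal.span_singleton_generator (I.map c), Ideal.span_singleton_eq_span_singleton]; exact ha⟩
    have hdvd : ∀ f ∈ I, Polynomial.X ^ a ∣ c f := fun f hf => by
      rw [← Ideal.mem_span_singleton, ← ha]; exact Ideal.mem_map_of_mem _ hf
    obtain ⟨f, hf, hcf⟩ := (Ideal.mem_map_iff_of_surjective c hsurj).1
      (show Polynomial.X ^ a ∈ I.map c from ha ▸ Ideal.mem_span_singleton_self _)
    have hIJ : I ≤ J := fun z hz => (hJ z).2 (I.mul_mem_left _ hz)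
    have hg := good hR l hdec v'
    have hba : hd l ≤ a := pow_X_dvd_iff.1 (hcf ▸ hg.dvd f (hl ▸ hIJ hf))
    obtain ⟨g, hg'⟩ := hR.ker (f - x ^ (a - hd l) * top' x y l v') (by
      rw [map_sub, map_mul, map_pow, hR.cx, hg.c_top, hcf, ← pow_add, Nat.sub_add_cancel hba, sub_self])
    obtain ⟨w, hw⟩ := hg.span_colon g (by
      rw [← hg']
      exact sub_mem (hl ▸ hIJ hf) (Ideal.mul_mem_left _ _ hg.top_mem))
    let v : Idx (a :: l) → A := Sum.elim w v'
    have htop : top' x y (a :: l) v ∈ I := by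
      have : top' x y (a :: l) v = f - y * (g - ∑ i, w i • colon x y l v' i) := by
        rw [top'_cons, mul_sub, ← hg']
        show x ^ (a - hd l) * top' x y l v' + y * ∑ i : Fin (hd l), w i • colon x y l v' i = _
        ring
      rw [this]
      exact sub_mem hf ((hJ _).1 (hl ▸ hw))
    refine ⟨a :: l, v, by simp [hlen], ⟨hba, hdec⟩, le_antisymm ?_ fun z hz => ?_⟩
    · rw [ideal_cons, sup_le_iff, Ideal.span_singleton_le_iff_mem]
      refine ⟨fun z hz => ?_, htop⟩
      obtain ⟨j, hj, rfl⟩ := Ideal.mem_span_singleton_mul.1 hz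
      exact (hJ j).1 (hl ▸ hj)
    · obtain ⟨q, hq⟩ := hdvd z hz
      obtain ⟨g', hg''⟩ := hR.ker (z - Polynomial.aeval x q * top' x y (a :: l) v) (by
        rw [map_sub, map_mul, hR.c_lift, c_top_cons (v := v) hR hba hg, hq, mul_comm, sub_self])
      refine (mem_ideal_cons x y).2 ⟨g', ?_, Polynomial.aeval x q, by rw [← hg'']; ring⟩
      show g' ∈ ideal x y l v'
      rw [hl, hJ, ← hg'']
      exact sub_mem hz (I.mul_mem_left _ htop)

/-- Cells do not overlap. -/
theorem cell_unique (hR : IsPlane x y c) : ∀ (l l₂ : List ℕ) (v : Idx l → A) (v₂ : Idx l₂ → A),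
    Dec l → Dec l₂ → l.length = l₂.length → ideal x y l v = ideal x y l₂ v₂ →
      (⟨l, v⟩ : Σ l : List ℕ, Idx l → A) = ⟨l₂, v₂⟩
  | [], [], v, v₂, _, _, _, _ => by rw [show v = v₂ from funext fun i => i.elim]
  | [], _ :: _, _, _, _, _, h, _ => absurd h (by simp)
  | _ :: _, [], _, _, _, _, h, _ => absurd h (by simp)
  | a :: l, a₂ :: l₂, v, v₂, hd₁, hd₂, hlen, hI => by
    have hg := good hR l hd₁.2 fun i => v (Sum.inr i)
    have hg₂ := good hR l₂ hd₂.2 fun i => v₂ (Sum.inr i)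
    have hG := good hR (a :: l) hd₁ v
    have hG₂ := good hR (a₂ :: l₂) hd₂ v₂
    have ha : a = a₂ := by
      have h1 := hG.dvd _ (hI ▸ hG₂.top_mem)
      have h2 := hG₂.dvd _ (hI ▸ hG.top_mem)
      rw [hG₂.c_top] at h1
      rw [hG.c_top] at h2
      exact le_antisymm (pow_X_dvd_iff.1 h1) (pow_X_dvd_iff.1 h2)
    subst ha
    have hJ : ideal x y l (fun i => v (Sum.inr i)) = ideal x y l₂ fun i => v₂ (Sum.inr i) := Ideal.ext fun z => by
      rw [← mul_mem_iff hR hd₁.1 hg, ← mul_mem_iff (v := v₂) hR hd₂.1 hg₂, hI]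
    have ih := cell_unique hR l l₂ _ _ hd₁.2 hd₂.2 (by simpa using hlen) hJ
    obtain rfl : l = l₂ := congrArg Sigma.fst ih
    rw [Sigma.mk.injEq, heq_eq_eq] at ih
    have hr : ∀ i, v (Sum.inr i) = v₂ (Sum.inr i) := congrFun ih.2
    have hmem : top' x y (a :: l) v - top' x y (a :: l) v₂ ∈ ideal x y (a :: l) v :=
      sub_mem hG.top_mem (hI ▸ hG₂.top_mem)
    rw [top'_cons, top'_cons, ← ih.2, add_sub_add_left_eq_sub, ← mul_sub, ← Finset.sum_sub_distrib,
      mul_mem_iff hR hd₁.1 hg] at hmem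
    have h0 := hg.indep_colon (fun i => v (Sum.inl i) - v₂ (Sum.inl i)) (by simpa only [sub_smul] using hmem)
    rw [Sigma.mk.injEq, heq_eq_eq]
    refine ⟨rfl, funext fun i => ?_⟩
    rcases i with i | i
    · exact sub_eq_zero.1 (congrFun h0 i)
    · exact hr i

end Groth.Agent.H27Staircase
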