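import Groth.Agent.H27Staircase.Algebra
import Mathlib

/-! # The generating series of cells -/

set_option autoImplicit false

universe u

namespace Groth.Agent.H27Staircase

/-- The decreasing lists of length `n` and sum `d`. -/
def cells : ℕ → ℕ → Finset (List ℕ)
  | 0, d => if d = 0 then {[]} else ∅
  | n + 1, d => (cells n d).image (fun l => l ++ [0]) ∪
      if n + 1 ≤ d then (cells (n + 1) (d - (n + 1))).image (List.map Nat.succ) else ∅
termination_by n d => (n, d)

lemma dec_append_zero : ∀ {l : List ℕ}, Dec (l ++ [0]) ↔ Dec l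
  | [] => by simp [Dec, hd]
  | [a] => by simp [Dec, hd]
  | a :: b :: l => by
    show b ≤ a ∧ Dec ((b :: l) ++ [0]) ↔ b ≤ a ∧ Dec (b :: l)
    rw [dec_append_zero]

lemma dec_map_succ : ∀ {l : List ℕ}, Dec (l.map Nat.succ) ↔ Dec l
  | [] => by simp [Dec]
  | [a] => by simp [Dec, hd]
  | a :: b :: l => by
    show b + 1 ≤ a + 1 ∧ Dec ((b :: l).map Nat.succ) ↔ b ≤ a ∧ Dec (b :: l)
    rw [dec_map_succ, Nat.add_le_add_iff_right]

/-- A decreasing list ends in zero or is positive. -/
lemma exists_split : ∀ {l : List ℕ}, Dec l → l ≠ [] →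
    (∃ l', l = l' ++ [0]) ∨ ∃ l' : List ℕ, l = l'.map Nat.succ
  | [], _, h => absurd rfl h
  | [a], _, _ => by
    cases a with
    | zero => exact Or.inl ⟨[], rfl⟩
    | succ a => exact Or.inr ⟨[a], rfl⟩
  | a :: b :: l, ⟨hab, hl⟩, _ => by
    rcases exists_split (l := b :: l) hl (by simp) with ⟨l', hl'⟩ | ⟨l', hl'⟩
    · exact Or.inl ⟨a :: l', by rw [hl']; rfl⟩
    · cases l' with
      | nil => simp at hl'
      | cons b' l'' =>
        simp only [List.map_cons, List.cons.injEq] at hl'
        obtain ⟨rfl, rfl⟩ := hl'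
        change b' + 1 ≤ a at hab
        exact Or.inr ⟨(a - 1) :: b' :: l'', by simp; omega⟩

lemma sum_map_succ : ∀ l : List ℕ, (l.map Nat.succ).sum = l.sum + l.length
  | [] => rfl
  | a :: l => by simp only [List.map_cons, List.sum_cons, List.length_cons, sum_map_succ l]; omega

theorem mem_cells : ∀ (n d : ℕ) (l : List ℕ), l ∈ cells n d ↔ l.length = n ∧ Dec l ∧ l.sum = d
  | 0, d, l => by
    rw [cells]
    split_ifs with h
    · simp only [Finset.mem_singleton, h]
      exact ⟨fun e => by simp [e, Dec], fun e => List.length_eq_zero_iff.1 e.1⟩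
    · simp only [Finset.notMem_empty, false_iff]
      rintro ⟨e, -, hs⟩
      rw [List.length_eq_zero_iff.1 e] at hs
      exact h hs.symm
  | n + 1, d, l => by
    rw [cells, Finset.mem_union]
    have h1 := fun l => mem_cells n d l
    have h2 : n + 1 ≤ d → ∀ l, l ∈ cells (n + 1) (d - (n + 1)) ↔
        l.length = n + 1 ∧ Dec l ∧ l.sum = d - (n + 1) := fun h l => mem_cells (n + 1) (d - (n + 1)) l
    constructor
    · rintro (h | h)
      · obtain ⟨l', hl', rfl⟩ := Finset.mem_image.1 h
        obtain ⟨e1, e2, e3⟩ := (h1 l').1 hl'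
        exact ⟨by simp [e1], dec_append_zero.2 e2, by simp [e3]⟩
      · split_ifs at h with hd'
        · obtain ⟨l', hl', rfl⟩ := Finset.mem_image.1 h
          obtain ⟨e1, e2, e3⟩ := (h2 hd' l').1 hl'
          exact ⟨by simp [e1], dec_map_succ.2 e2, by rw [sum_map_succ]; omega⟩
        · simp at h
    · rintro ⟨e1, e2, e3⟩
      rcases exists_split e2 (by rintro rfl; simp at e1) with ⟨l', rfl⟩ | ⟨l', rfl⟩
      · exact Or.inl (Finset.mem_image.2 ⟨l', (h1 l').2 ⟨by simpa using e1, dec_append_zero.1 e2, by simpa using e3⟩, rfl⟩)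
      · rw [sum_map_succ] at e3
        rw [List.length_map] at e1
        rw [if_pos (by omega)]
        exact Or.inr (Finset.mem_image.2 ⟨l', (h2 (by omega) l').2 ⟨e1, dec_map_succ.1 e2, by omega⟩, rfl⟩)
termination_by n d => (n, d)

variable {S : Type u} [CommRing S] (L : S)

/-- The weighted number of cells. -/
noncomputable def series (n : ℕ) : PowerSeries S :=
  PowerSeries.mk fun d => ∑ l ∈ cells n d, L ^ l.tail.sum

lemma sum_cells_succ (n d : ℕ) :
    ∑ l ∈ cells (n + 1) d, L ^ l.tail.sum = (∑ l ∈ cells n d, L ^ l.tail.sum) +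
      if n + 1 ≤ d then L ^ n * ∑ l ∈ cells (n + 1) (d - (n + 1)), L ^ l.tail.sum else 0 := by
  rw [cells, Finset.sum_union]
  · congr 1
    · rw [Finset.sum_image fun a _ b _ h => List.append_cancel_right h]
      refine Finset.sum_congr rfl fun l _ => ?_
      cases l <;> simp
    · split_ifs with h
      · rw [Finset.sum_image fun a _ b _ h => List.map_injective_iff.2 Nat.succ_injective h, Finset.mul_sum]
        refine Finset.sum_congr rfl fun l hl => ?_
        obtain ⟨e1, -, -⟩ := (mem_cells _ _ _).1 hl
        cases l with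
        | nil => simp at e1
        | cons a t =>
          simp only [List.length_cons, Nat.add_right_cancel_iff] at e1
          simp only [List.map_cons, List.tail_cons, sum_map_succ, e1, pow_add, mul_comm]
      · simp
  · rw [Finset.disjoint_left]
    intro l hl hl'
    split_ifs at hl' with h
    · obtain ⟨a, -, rfl⟩ := Finset.mem_image.1 hl
      obtain ⟨b, -, hb⟩ := Finset.mem_image.1 hl'
      have : (0 : ℕ) ∈ b.map Nat.succ := by rw [hb]; simp
      simp at this
    · simp at hl'

theorem series_mul_prod : ∀ n : ℕ,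
    series L n * ∏ m ∈ Finset.range n, (1 - PowerSeries.C (L ^ m) * PowerSeries.X ^ (m + 1)) = 1
  | 0 => by
    ext d
    simp only [series, Finset.range_zero, Finset.prod_empty, mul_one, PowerSeries.coeff_mk, cells, PowerSeries.coeff_one]
    split_ifs <;> simp
  | n + 1 => by
    have h : series L (n + 1) * (1 - PowerSeries.C (L ^ n) * PowerSeries.X ^ (n + 1)) = series L n := by
      ext d
      rw [mul_sub, mul_one, map_sub, ← mul_assoc, mul_comm _ (PowerSeries.C (L ^ n)), mul_assoc,
        PowerSeries.coeff_C_mul, PowerSeries.coeff_mul_X_pow', series, series, PowerSeries.coeff_mk,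
        PowerSeries.coeff_mk, sum_cells_succ]
      split_ifs with h
      · simp only [PowerSeries.coeff_mk]; ring
      · simp only [PowerSeries.coeff_mk]; ring
    rw [Finset.prod_range_succ, mul_comm (∏ _ ∈ _, _), ← mul_assoc, h, series_mul_prod n]

end Groth.Agent.H27Staircase
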