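import Groth.Agent.H27Staircase.Tensor
import Groth.Agent.H27Staircase.Count
import Groth.Agent.H27PunctStrat.Basic
import Groth.Agent.H27PunctStrat.Classes
import Mathlib

/-! # Punctual Hilbert schemes of the plane and of thickened lines -/

set_option autoImplicit false
set_option linter.style.haveILetI false
set_option backward.isDefEq.respectTransparency false
set_option backward.isDefEq.respectTransparency.types false

universe u

open CategoryTheory CategoryTheory.Limits AlgebraicGeometry TensorProduct CommRingCat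

namespace Groth.Agent.H27Staircase

open H27HilbAff H27PunctStrat

variable {k : Type u} [Field k]

/-- A nilpotent element of a `d`-dimensional algebra has vanishing `d`-th power. -/
lemma pow_eq_zero_of_finrank {K Q : Type u} [Field K] [CommRing Q] [Algebra K Q] [Module.Finite K Q] {d : ℕ}
    (hd : Module.finrank K Q = d) {a : Q} (ha : IsNilpotent a) : a ^ d = 0 := by
  have h := ha.map (Algebra.lmul K Q)
  have h1 := LinearMap.aeval_self_charpoly (Algebra.lmul K Q a)
  rw [(LinearMap.isNilpotent_iff_charpoly _).1 h, map_pow, Polynomial.aeval_X, hd, ← map_pow] at h1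
  exact Algebra.lmul_injective (h1.trans (map_zero _).symm)

variable {B : Type u} [CommRing B] [Algebra k B] (π : MvPolynomial (Fin 2) k →ₐ[k] B)

/-- The quotient map on families. -/
noncomputable abbrev qB (A : Type u) [CommRing A] [Algebra k A] : A ⊗[k] MvPolynomial (Fin 2) k →ₐ[A] A ⊗[k] B :=
  Algebra.TensorProduct.map (AlgHom.id A A) π

variable {π}

lemma qB_surjective (hπ : Function.Surjective π) (A : Type u) [CommRing A] [Algebra k A] :
    Function.Surjective (qB π A) := by
  intro z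
  induction z using TensorProduct.induction_on with
  | zero => exact ⟨0, map_zero _⟩
  | tmul a b => obtain ⟨p, rfl⟩ := hπ b; exact ⟨a ⊗ₜ p, Algebra.TensorProduct.map_tmul _ _ _ _⟩
  | add p q hp hq =>
    obtain ⟨p', rfl⟩ := hp
    obtain ⟨q', rfl⟩ := hq
    exact ⟨p' + q', map_add _ _ _⟩

variable {n : ℕ}

lemma ker_qB_le (hπ : Function.Surjective π) (hker : RingHom.ker π ≤ Ideal.span {MvPolynomial.X 1 ^ n})
    {A : Type u} [CommRing A] [Algebra k A] {I : Ideal (A ⊗[k] MvPolynomial (Fin 2) k)} (hy : ty k A ^ n ∈ I) :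
    RingHom.ker (qB π A) ≤ I := by
  refine le_of_eq_of_le (Algebra.TensorProduct.lTensor_ker (A := A) π hπ) (Ideal.map_le_iff_le_comap.2 ?_)
  refine hker.trans (Ideal.span_le.2 (Set.singleton_subset_iff.2 ?_))
  rw [SetLike.mem_coe, Ideal.mem_comap, map_pow]
  exact hy

lemma comap_map_qB (hπ : Function.Surjective π) (hker : RingHom.ker π ≤ Ideal.span {MvPolynomial.X 1 ^ n})
    {A : Type u} [CommRing A] [Algebra k A] {I : Ideal (A ⊗[k] MvPolynomial (Fin 2) k)} (hy : ty k A ^ n ∈ I) :
    (I.map (qB π A)).comap (qB π A) = I := by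
  rw [Ideal.comap_map_of_surjective _ (qB_surjective hπ A)]
  exact sup_eq_left.2 (ker_qB_le hπ hker hy)

/-- The family of a cell. -/
noncomputable abbrev fam (π : MvPolynomial (Fin 2) k →ₐ[k] B) (l : List ℕ) :
    Ideal (MvPolynomial (ULift.{u} (Idx l)) k ⊗[k] B) :=
  (ideal (tx k _) (ty k _) l fun i => (MvPolynomial.X ⟨i⟩ : MvPolynomial (ULift.{u} (Idx l)) k)).map (qB π _)

lemma fam_rank (hπ : Function.Surjective π) (hker : RingHom.ker π ≤ Ideal.span {MvPolynomial.X 1 ^ n})
    {A : Type u} [CommRing A] [Algebra k A] [Nontrivial A] {l : List ℕ} (hl : l.length = n) (hdec : Dec l) (v : Idx l → A) :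
    Module.Finite A ((A ⊗[k] B) ⧸ (ideal (tx k A) (ty k A) l v).map (qB π A)) ∧
      Module.Free A ((A ⊗[k] B) ⧸ (ideal (tx k A) (ty k A) l v).map (qB π A)) ∧
      Module.finrank A ((A ⊗[k] B) ⧸ (ideal (tx k A) (ty k A) l v).map (qB π A)) = l.sum := by
  obtain ⟨e⟩ := exists_equiv (isPlane_tensor k A) l hdec v
  set I := ideal (tx k A) (ty k A) l v
  let ψ := (Ideal.Quotient.mkₐ A (I.map (qB π A))).comp (qB π A)
  have hψ : RingHom.ker ψ = I := by
    show RingHom.ker ((Ideal.Quotient.mk _).comp (qB π A).toRingHom) = I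
    rw [← RingHom.comap_ker, Ideal.mk_ker]
    exact comap_map_qB hπ hker (hl ▸ pow_mem l v)
  let e' : (Fin l.sum → A) ≃ₗ[A] (A ⊗[k] B) ⧸ I.map (qB π A) :=
    e.symm ≪≫ₗ ((Ideal.quotientEquivAlgOfEq A hψ.symm).trans (Ideal.quotientKerAlgEquivOfSurjective
      ((Ideal.Quotient.mkₐ_surjective A _).comp (qB_surjective hπ A)))).toLinearEquiv
  refine ⟨Module.Finite.equiv e', Module.Free.of_equiv e', ?_⟩
  rw [← e'.finrank_eq, Module.finrank_fintype_fun_eq_card, Fintype.card_fin]

lemma map_fam (l : List ℕ) {K : Type u} [CommRing K] [Algebra k K]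
    (χ : MvPolynomial (ULift.{u} (Idx l)) k →ₐ[k] K) :
    (fam π l).map (bc χ) = (ideal (tx k K) (ty k K) l fun i => χ (MvPolynomial.X ⟨i⟩)).map (qB π K) := by
  obtain ⟨h, -, -⟩ := map_data (x := tx k (MvPolynomial (ULift.{u} (Idx l)) k)) (y := ty k _) χ.toRingHom
    (bc (B := MvPolynomial (Fin 2) k) χ) (fun a => by simp [Algebra.TensorProduct.algebraMap_apply]) l
    (fun i => (MvPolynomial.X ⟨i⟩ : MvPolynomial (ULift.{u} (Idx l)) k))
  simp only [bc_tmul, map_one] at h
  rw [fam, show (ideal (tx k K) (ty k K) l fun i => χ (MvPolynomial.X ⟨i⟩)) = _ from h.symm]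
  refine (Ideal.map_map _ _).trans (Eq.trans ?_ (Ideal.map_map _ _).symm)
  refine congrArg (fun φ : _ →+* _ => Ideal.map φ _) (RingHom.ext fun z => ?_)
  induction z using TensorProduct.induction_on with
  | zero => simp only [map_zero]
  | tmul a p => simp
  | add p q hp hq => simp only [map_add, hp, hq]

variable [Algebra.FiniteType k B]

/-- Classes of punctual Hilbert schemes as sums over cells. -/
theorem cl_punctual (hπ : Function.Surjective π) (hker : RingHom.ker π ≤ Ideal.span {MvPolynomial.X 1 ^ n})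
    {d : ℕ} (hn : π (MvPolynomial.X 1 ^ n) = 0 ∨ d ≤ n)
    {f : Spec (CommRingCat.of B) ⟶ Spec (CommRingCat.of k)}
    (hf : f = fB (R := k) (B := B) (𝟙 (Spec (CommRingCat.of k))))
    {H : Over (Spec (CommRingCat.of k))} [LocallyOfFiniteType H.hom] [QuasiCompact H.hom]
    (Z : HilbD.Obj f d H) (hZ : HilbD.IsUniversal f d H Z) {x₀ : PrimeSpectrum B}
    (hx₀ : x₀.asIdeal = Ideal.map π (Ideal.span (Set.range MvPolynomial.X)))
    {HP : Scheme.{u}} (ι : HP ⟶ H.left) [IsClosedImmersion ι]
    (hι : Set.range ι = {h | ∀ z : Z.1.subscheme, (Z.1.subschemeι ≫ pullback.snd f H.hom) z = h →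
      (Z.1.subschemeι ≫ pullback.fst f H.hom) z = x₀}) :
    K0Var.cl (ι ≫ H.hom) = ∑ l ∈ cells n d, K0Var.L (Spec (CommRingCat.of k)) ^ l.tail.sum := by
  classical
  have hmax : x₀.asIdeal.IsMaximal := by
    rw [hx₀]
    refine (Ideal.map_eq_top_or_isMaximal_of_surjective (f := π) hπ (I := Ideal.span (Set.range MvPolynomial.X))
      ?_).resolve_left (hx₀ ▸ x₀.2.ne_top)
    have he : Ideal.span (Set.range (MvPolynomial.X : Fin 2 → MvPolynomial (Fin 2) k)) =
        RingHom.ker (MvPolynomial.eval (0 : Fin 2 → k)) := by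
      rw [← Set.image_univ]
      ext p
      rw [MvPolynomial.mem_ideal_span_X_image, RingHom.mem_ker, MvPolynomial.eval_zero]
      constructor
      · intro h
        by_contra hne
        obtain ⟨i, -, hi⟩ := h 0 (MvPolynomial.mem_support_iff.2 hne)
        exact hi rfl
      · intro h mon hmon
        by_contra hh
        push Not at hh
        have : mon = 0 := Finsupp.ext fun i => hh i (Set.mem_univ i)
        exact MvPolynomial.mem_support_iff.1 (this ▸ hmon) h
    rw [he]
    exact RingHom.ker_isMaximal_of_surjective _ fun c => ⟨MvPolynomial.C c, by simp⟩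
  have hcl := H27PunctStrat.cl_eq_sum hf Z hZ hmax ι hι (α := ↥(cells n d))
    (fun l => MvPolynomial (ULift.{u} (Idx l.1)) k) (fun l => fam π l.1)
    (fun l => by
      obtain ⟨h1, h2, h3⟩ := (mem_cells n d l.1).1 l.2
      have := fam_rank hπ hker h1 h2 (fun i => (MvPolynomial.X ⟨i⟩ : MvPolynomial (ULift.{u} (Idx l.1)) k))
      rw [h3] at this
      exact this)
    (fun l K _ _ χ => by
      obtain ⟨h1, h2, -⟩ := (mem_cells n d l.1).1 l.2
      rw [IsPunct, map_fam, hx₀, Ideal.map_le_iff_le_comap, Ideal.map_le_iff_le_comap, Ideal.span_le]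
      rintro _ ⟨i, rfl⟩
      obtain ⟨N, hN⟩ := exists_pow_mem_x (isPlane_tensor k K) l.1 h2 (fun i => χ (MvPolynomial.X ⟨i⟩))
      fin_cases i
      · exact ⟨N, by simpa [Algebra.TensorProduct.tmul_pow] using Ideal.mem_map_of_mem (qB π K) hN⟩
      · refine ⟨n, ?_⟩
        have := Ideal.mem_map_of_mem (qB π K) (h1 ▸ pow_mem (x := tx k K) (y := ty k K) l.1 (fun i => χ (MvPolynomial.X ⟨i⟩)))
        simpa [Algebra.TensorProduct.tmul_pow] using this)
    (fun K _ _ I hfin hrank hpun => by
      have hnil : ∀ i, IsNilpotent (Ideal.Quotient.mk I ((1 : K) ⊗ₜ[k] π (MvPolynomial.X i))) := fun i => by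
        have : (1 : K) ⊗ₜ[k] π (MvPolynomial.X i) ∈ I.radical := hpun (Ideal.mem_map_of_mem _ (by
          rw [hx₀]; exact Ideal.mem_map_of_mem _ (Ideal.subset_span ⟨i, rfl⟩)))
        obtain ⟨N, hN⟩ := this
        exact ⟨N, by rw [← map_pow]; exact Ideal.Quotient.eq_zero_iff_mem.2 hN⟩
      have hpow : ∀ i, qB π K ((1 : K) ⊗ₜ[k] MvPolynomial.X i) ^ d ∈ I := fun i => by
        rw [← Ideal.Quotient.eq_zero_iff_mem, map_pow]
        exact pow_eq_zero_of_finrank hrank (by simpa using hnil i)
      let J : Ideal (K ⊗[k] MvPolynomial (Fin 2) k) := I.comap (qB π K)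
      have hy : ty k K ^ n ∈ J := by
        rw [Ideal.mem_comap, map_pow]
        rcases hn with hn | hn
        · have : qB π K (ty k K) ^ n = 0 := by
            rw [Algebra.TensorProduct.map_tmul, Algebra.TensorProduct.tmul_pow, AlgHom.id_apply, one_pow, ← map_pow, hn,
              TensorProduct.tmul_zero]
          rw [this]; exact I.zero_mem
        · exact I.pow_mem_of_pow_mem (hpow 1) hn
      have hx : tx k K ^ d ∈ J := by rw [Ideal.mem_comap, map_pow]; exact hpow 0
      obtain ⟨l, v, hl, hdec, hlJ⟩ := exists_cell (isPlane_tensor k K) n J hy d hx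
      have hI : (ideal (tx k K) (ty k K) l v).map (qB π K) = I := by
        rw [hlJ]; exact Ideal.map_comap_of_surjective _ (qB_surjective hπ K) I
      have hsum : l.sum = d := by
        obtain ⟨-, -, hr⟩ := fam_rank hπ hker (A := K) hl hdec v
        rw [hI, hrank] at hr
        exact hr.symm
      let χ : MvPolynomial (ULift.{u} (Idx l)) k →ₐ[k] K := MvPolynomial.aeval fun i => v i.down
      have hχ : (fam π l).map (bc χ) = I := by
        rw [map_fam]; simpa [χ] using hI
      refine ⟨⟨⟨l, (mem_cells n d l).2 ⟨hl, hdec, hsum⟩⟩, χ⟩, hχ, ?_⟩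
      rintro ⟨⟨l', hl'⟩, χ'⟩ e
      obtain ⟨h1, h2, -⟩ := (mem_cells n d l').1 hl'
      have e' : (ideal (tx k K) (ty k K) l' fun i => χ' (MvPolynomial.X ⟨i⟩)).map (qB π K) = I := (map_fam l' χ').symm.trans e
      have := cell_unique (isPlane_tensor k K) l' l _ v h2 hdec (h1.trans hl.symm) (by
        rw [← comap_map_qB (I := ideal (tx k K) (ty k K) l' fun i => χ' (MvPolynomial.X ⟨i⟩)) hπ hker (h1 ▸ pow_mem (x := tx k K) (y := ty k K) l' fun i => χ' (MvPolynomial.X ⟨i⟩)),
          e', hlJ])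
      obtain rfl : l' = l := congrArg Sigma.fst this
      rw [Sigma.mk.injEq, heq_eq_eq] at this ⊢
      refine ⟨rfl, MvPolynomial.algHom_ext fun i => ?_⟩
      simp only [χ, MvPolynomial.aeval_X]
      exact congrFun this.2 i.down)
  rw [hcl, Finset.univ_eq_attach, ← Finset.sum_attach (cells n d)]
  refine Finset.sum_congr rfl fun l _ => ?_
  rw [cl_mvPolynomial, Fintype.card_ulift, card_idx]

end Groth.Agent.H27Staircase
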